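import Mathlib.RingTheory.PowerSeries.Inverse
import Mathlib.RingTheory.PowerSeries.Order
import Mathlib.LinearAlgebra.Matrix.Determinant.Basic
import Mathlib.LinearAlgebra.Matrix.Block
import Mathlib.LinearAlgebra.Matrix.NonsingularInverse
import Mathlib.LinearAlgebra.Matrix.Permutation

/-! Row reduction of matrices over `k⟦t⟧`. -/

set_option autoImplicit false

universe u

open Matrix PowerSeries

namespace Groth.Agent.HNF15

variable {k : Type u} [Field k] {r : ℕ}

/-- The block matrix `[[x, b], [0, D]]`. -/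
noncomputable def blk (x : PowerSeries k) (b : Fin r → PowerSeries k)
    (D : Matrix (Fin r) (Fin r) (PowerSeries k)) : Matrix (Fin (r + 1)) (Fin (r + 1)) (PowerSeries k) :=
  Matrix.of (Fin.cons (Fin.cons x b) fun i => Fin.cons 0 (D i))

theorem blk_zero_zero (x : PowerSeries k) (b : Fin r → PowerSeries k) (D : Matrix (Fin r) (Fin r) (PowerSeries k)) :
    blk x b D 0 0 = x := rfl
theorem blk_zero_succ (x : PowerSeries k) (b : Fin r → PowerSeries k) (D : Matrix (Fin r) (Fin r) (PowerSeries k))
    (j : Fin r) : blk x b D 0 j.succ = b j := by simp [blk]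
theorem blk_succ_zero (x : PowerSeries k) (b : Fin r → PowerSeries k) (D : Matrix (Fin r) (Fin r) (PowerSeries k))
    (i : Fin r) : blk x b D i.succ 0 = 0 := by simp [blk]
theorem blk_succ_succ (x : PowerSeries k) (b : Fin r → PowerSeries k) (D : Matrix (Fin r) (Fin r) (PowerSeries k))
    (i j : Fin r) : blk x b D i.succ j.succ = D i j := by simp [blk]

theorem blk_mul (x x' : PowerSeries k) (b b' : Fin r → PowerSeries k) (D D' : Matrix (Fin r) (Fin r) (PowerSeries k)) :
    blk x b D * blk x' b' D' = blk (x * x') (x • b' + b ᵥ* D') (D * D') := by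
  refine Matrix.ext fun i j => ?_
  rw [Matrix.mul_apply, Fin.sum_univ_succ]
  induction i using Fin.cases with
  | zero =>
    induction j using Fin.cases with
    | zero => simp [blk_zero_zero, blk_succ_zero]
    | succ j => simp [blk_zero_zero, blk_zero_succ, blk_succ_succ, Matrix.vecMul, dotProduct]
  | succ i =>
    induction j using Fin.cases with
    | zero => simp [blk_succ_zero]
    | succ j => simp [blk_succ_zero, blk_succ_succ, Matrix.mul_apply]

theorem det_blk (x : PowerSeries k) (b : Fin r → PowerSeries k) (D : Matrix (Fin r) (Fin r) (PowerSeries k)) :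
    (blk x b D).det = x * D.det := by
  rw [Matrix.det_succ_column_zero, Finset.sum_eq_single 0]
  · rw [blk_zero_zero, Fin.val_zero, pow_zero, one_mul]
    congr 2
  · intro i _ hi
    obtain ⟨i, rfl⟩ := Fin.exists_succ_eq.2 hi
    rw [blk_succ_zero]; ring
  · simp

theorem isUnit_blk (b : Fin r → PowerSeries k) {x : PowerSeries k} (hx : IsUnit x)
    {D : Matrix (Fin r) (Fin r) (PowerSeries k)} (hD : IsUnit D) : IsUnit (blk x b D) := by
  rw [Matrix.isUnit_iff_isUnit_det, det_blk]
  exact hx.mul ((Matrix.isUnit_iff_isUnit_det D).1 hD)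

theorem eq_blk {M : Matrix (Fin (r + 1)) (Fin (r + 1)) (PowerSeries k)} (h : ∀ i : Fin r, M i.succ 0 = 0) :
    M = blk (M 0 0) (fun j => M 0 j.succ) (Matrix.of fun i j => M i.succ j.succ) := by
  refine Matrix.ext fun i j => ?_
  induction i using Fin.cases with
  | zero => induction j using Fin.cases with
    | zero => rfl
    | succ j => rw [blk_zero_succ]
  | succ i => induction j using Fin.cases with
    | zero => rw [blk_succ_zero, h]
    | succ j => rw [blk_succ_succ]; rfl

/-- Clearing the first column. -/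
theorem exists_clear (M : Matrix (Fin (r + 1)) (Fin (r + 1)) (PowerSeries k)) (hM : M.det ≠ 0) :
    ∃ (N : Matrix (Fin (r + 1)) (Fin (r + 1)) (PowerSeries k)) (e : ℕ) (b : Fin r → PowerSeries k)
      (D : Matrix (Fin r) (Fin r) (PowerSeries k)), IsUnit N ∧ N * M = blk (X ^ e) b D := by
  classical
  obtain ⟨i₀, hi₀⟩ : ∃ i, M i 0 ≠ 0 := by
    by_contra hc
    push Not at hc
    exact hM (Matrix.det_eq_zero_of_column_eq_zero 0 hc)
  obtain ⟨i, hi, hmin⟩ := (Finset.univ.filter fun i => M i 0 ≠ 0).exists_min_image (fun i => (M i 0).order)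
    ⟨i₀, Finset.mem_filter.2 ⟨Finset.mem_univ _, hi₀⟩⟩
  simp only [Finset.mem_filter, Finset.mem_univ, true_and] at hi hmin
  set e := (M i 0).order.toNat with he
  set u := divXPowOrder (M i 0) with hu
  have hu' : IsUnit u := isUnit_divided_by_X_pow_order hi
  have hdvd : ∀ l, X ^ e ∣ M l 0 := fun l => by
    by_cases hl : M l 0 = 0
    · rw [hl]; exact dvd_zero _
    · rw [X_pow_dvd_iff]
      intro m hm
      refine coeff_of_lt_order m (lt_of_lt_of_le ?_ (hmin l hl))
      rw [← coe_toNat_order hi]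
      exact_mod_cast hm
  choose q hq using hdvd
  let σ : Equiv.Perm (Fin (r + 1)) := Equiv.swap 0 i
  let S : Matrix (Fin (r + 1)) (Fin (r + 1)) (PowerSeries k) := σ.permMatrix (PowerSeries k)
  let T : Matrix (Fin (r + 1)) (Fin (r + 1)) (PowerSeries k) :=
    Matrix.of (Fin.cons (Fin.cons (↑hu'.unit⁻¹) 0)
      fun l => Fin.cons (-(q (σ l.succ) * ↑hu'.unit⁻¹)) ((1 : Matrix (Fin r) (Fin r) (PowerSeries k)) l))
  have hSM : ∀ l j, (S * M) l j = M (σ l) j := fun l j => by
    simp [S, Equiv.Perm.permMatrix, PEquiv.toMatrix_toPEquiv_mul]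
  have h00 : (T * (S * M)) 0 0 = X ^ e := by
    rw [Matrix.mul_apply, Fin.sum_univ_succ]
    simp only [T, Matrix.of_apply, Fin.cons_zero, Fin.cons_succ, Pi.zero_apply, zero_mul, Finset.sum_const_zero, add_zero, hSM]
    rw [show σ 0 = i from Equiv.swap_apply_left 0 i]
    conv_lhs => rw [← X_pow_order_mul_divXPowOrder (f := M i 0)]
    rw [← hu, ← he, mul_left_comm, IsUnit.val_inv_mul, mul_one]
  have hcol : ∀ l : Fin r, (T * (S * M)) l.succ 0 = 0 := fun l => by
    rw [Matrix.mul_apply, Fin.sum_univ_succ]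
    simp only [T, Matrix.of_apply, Fin.cons_zero, Fin.cons_succ, Matrix.one_apply, ite_mul, one_mul, zero_mul,
      Finset.sum_ite_eq, Finset.mem_univ, if_true, hSM]
    rw [show σ 0 = i from Equiv.swap_apply_left 0 i, hq (σ l.succ), neg_mul, mul_assoc]
    have : (↑hu'.unit⁻¹ : PowerSeries k) * M i 0 = X ^ e := by
      conv_lhs => rw [← X_pow_order_mul_divXPowOrder (f := M i 0)]
      rw [← hu, ← he, mul_left_comm, IsUnit.val_inv_mul, mul_one]
    rw [this]; ring
  have hdet : IsUnit T.det := by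
    have h0 : T.BlockTriangular OrderDual.toDual := by
      intro a b hab
      rw [OrderDual.toDual_lt_toDual] at hab
      induction a using Fin.cases with
      | zero =>
        obtain ⟨b, rfl⟩ := Fin.exists_succ_eq.2 hab.ne'
        simp [T]
      | succ a =>
        obtain ⟨b, rfl⟩ := Fin.exists_succ_eq.2 (ne_of_gt (lt_trans (Fin.succ_pos a) hab))
        simp [T, Matrix.one_apply_ne (Fin.succ_lt_succ_iff.1 hab).ne]
    rw [Matrix.det_of_lowerTriangular T h0, Fin.prod_univ_succ]
    simp [T]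
  refine ⟨T * S, e, _, _, ?_, ((mul_assoc T S M).trans (eq_blk hcol)).trans (by rw [h00])⟩
  refine ((Matrix.isUnit_iff_isUnit_det T).2 hdet).mul ((Matrix.isUnit_iff_isUnit_det S).2 ?_)
  rw [Matrix.det_permutation]
  exact (Units.isUnit _).map (Int.castRingHom (PowerSeries k))

/-- Reduced form: monomial diagonal, zero below, small degrees above. -/
def IsRed {n : ℕ} (e : Fin n → ℕ) (H : Matrix (Fin n) (Fin n) (PowerSeries k)) : Prop :=
  (∀ i, H i i = X ^ e i) ∧ (∀ i j, j < i → H i j = 0) ∧
    ∀ i j, i < j → ∀ m, e j ≤ m → coeff m (H i j) = 0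

/-- Reducing a row modulo the rows of a reduced matrix. -/
theorem exists_reduce_row {e : Fin r → ℕ} {H : Matrix (Fin r) (Fin r) (PowerSeries k)} (hH : IsRed e H)
    (b : Fin r → PowerSeries k) : ∃ c : Fin r → PowerSeries k, ∀ j m, e j ≤ m → coeff m ((b + c ᵥ* H) j) = 0 := by
  suffices h : ∀ s : ℕ, ∃ c : Fin r → PowerSeries k, (∀ l : Fin r, s ≤ l.val → c l = 0) ∧
      ∀ j : Fin r, j.val < s → ∀ m, e j ≤ m → coeff m ((b + c ᵥ* H) j) = 0 by
    obtain ⟨c, -, hc⟩ := h r
    exact ⟨c, fun j => hc j j.2⟩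
  intro s
  induction s with
  | zero => exact ⟨0, fun _ _ => rfl, fun j hj => absurd hj (Nat.not_lt_zero _)⟩
  | succ s ih =>
    obtain ⟨c, hc0, hc⟩ := ih
    by_cases hs : s < r
    swap
    · exact ⟨c, fun l _ => hc0 l (by omega), fun j _ => hc j (by omega)⟩
    set j₀ : Fin r := ⟨s, hs⟩ with hj₀
    set w : PowerSeries k := PowerSeries.mk fun m => - coeff (m + e j₀) ((b + c ᵥ* H) j₀) with hw
    refine ⟨c + Pi.single j₀ w, fun l hl => ?_, fun j hj m hm => ?_⟩
    · rw [Pi.add_apply, hc0 l (by omega), Pi.single_eq_of_ne (Fin.ne_of_val_ne (by simp [hj₀]; omega)), add_zero]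
    have hval : (b + (c + Pi.single j₀ w) ᵥ* H) j = (b + c ᵥ* H) j + w * H j₀ j := by
      simp only [Pi.add_apply, Matrix.add_vecMul, Matrix.single_vecMul, Pi.smul_apply, smul_eq_mul, Matrix.row_apply, add_assoc]
    rw [hval]
    by_cases hjs : j = j₀
    · subst hjs
      obtain ⟨m', rfl⟩ := Nat.exists_eq_add_of_le' hm
      rw [hH.1 j₀, map_add, coeff_mul_X_pow, hw, coeff_mk, add_neg_cancel]
    · have hlt : j.val < s := lt_of_le_of_ne (by omega) (fun h => hjs (Fin.ext h))
      rw [hH.2.1 j₀ j hlt, mul_zero, add_zero]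
      exact hc j hlt m hm

/-- Existence of the reduced form, with optional admissible column operations. -/
theorem exists_form (Adm : ∀ n : ℕ, Matrix (Fin n) (Fin n) (PowerSeries k) → Prop)
    (clean : ℕ → ℕ → Prop) (h1 : Adm 0 1)
    (hstep : ∀ (n : ℕ) (P : Matrix (Fin n) (Fin n) (PowerSeries k)) (e : ℕ) (f : Fin n → PowerSeries k),
      Adm n P → ∃ g : Fin n → PowerSeries k, Adm (n + 1) (blk 1 g P) ∧
        ∀ j m, (clean e m → coeff m (f j + X ^ e * g j) = 0) ∧
          (coeff m (f j) = 0 → coeff m (f j + X ^ e * g j) = 0)) :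
    ∀ (r : ℕ) (M : Matrix (Fin r) (Fin r) (PowerSeries k)), M.det ≠ 0 →
      ∃ (N P : Matrix (Fin r) (Fin r) (PowerSeries k)) (e : Fin r → ℕ), IsUnit N ∧ IsUnit P ∧ Adm r P ∧
        IsRed e (N * M * P) ∧ ∀ i j, i < j → ∀ m, clean (e i) m → coeff m ((N * M * P) i j) = 0
  | 0, M, _ => ⟨1, 1, 0, isUnit_one, isUnit_one, h1, ⟨fun i => i.elim0, fun i => i.elim0, fun i => i.elim0⟩,
      fun i => i.elim0⟩
  | r + 1, M, hM => by
    obtain ⟨N₀, e₀, b, D, hN₀, hNM⟩ := exists_clear M hM
    have hD : D.det ≠ 0 := by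
      intro h0
      have h := congrArg Matrix.det hNM
      rw [det_blk, h0, mul_zero, Matrix.det_mul] at h
      exact hM ((((Matrix.isUnit_iff_isUnit_det N₀).1 hN₀).mul_right_eq_zero).1 h)
    obtain ⟨N', P', e', hN', hP', hA', hR, hC⟩ := exists_form Adm clean h1 hstep r D hD
    set H := N' * D * P' with hH
    obtain ⟨c, hc⟩ := exists_reduce_row hR (b ᵥ* P')
    obtain ⟨g, hg, hgc⟩ := hstep r P' e₀ (b ᵥ* P' + c ᵥ* H) hA'
    refine ⟨blk 1 (c ᵥ* N') N' * N₀, blk 1 g P', Fin.cons e₀ e', (isUnit_blk _ isUnit_one hN').mul hN₀,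
      isUnit_blk _ isUnit_one hP', hg, ?_⟩
    have hprod : blk 1 (c ᵥ* N') N' * N₀ * M * blk 1 g P' = blk (X ^ e₀) (fun j => (b ᵥ* P' + c ᵥ* H) j + X ^ e₀ * g j) H := by
      rw [mul_assoc (blk 1 _ N') N₀ M, hNM, blk_mul, blk_mul, ← hH]
      congr 1
      · ring
      · funext j
        simp only [Pi.add_apply, Pi.smul_apply, smul_eq_mul, one_mul, one_smul, Matrix.add_vecMul, Matrix.vecMul_vecMul, ← hH, ← mul_assoc]
        ring
    rw [hprod]
    refine ⟨⟨fun i => ?_, fun i j hij => ?_, fun i j hij m hm => ?_⟩, fun i j hij m hm => ?_⟩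
    · induction i using Fin.cases with
      | zero => rw [blk_zero_zero, Fin.cons_zero]
      | succ i => rw [blk_succ_succ, Fin.cons_succ, hR.1]
    · obtain ⟨i, rfl⟩ := Fin.exists_succ_eq.2 (ne_of_gt (lt_of_le_of_lt (Fin.zero_le j) hij))
      induction j using Fin.cases with
      | zero => rw [blk_succ_zero]
      | succ j => rw [blk_succ_succ]; exact hR.2.1 i j (Fin.succ_lt_succ_iff.1 hij)
    · obtain ⟨j, rfl⟩ := Fin.exists_succ_eq.2 (ne_of_gt (lt_of_le_of_lt (Fin.zero_le i) hij))
      rw [Fin.cons_succ] at hm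
      induction i using Fin.cases with
      | zero => rw [blk_zero_succ]; exact (hgc j m).2 (hc j m hm)
      | succ i => rw [blk_succ_succ]; exact hR.2.2 i j (Fin.succ_lt_succ_iff.1 hij) m hm
    · obtain ⟨j, rfl⟩ := Fin.exists_succ_eq.2 (ne_of_gt (lt_of_le_of_lt (Fin.zero_le i) hij))
      induction i using Fin.cases with
      | zero => rw [Fin.cons_zero] at hm; rw [blk_zero_succ]; exact (hgc j m).1 hm
      | succ i => rw [Fin.cons_succ] at hm; rw [blk_succ_succ]; exact hC i j (Fin.succ_lt_succ_iff.1 hij) m hm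

/-- Uniqueness of the reduced form. -/
theorem red_unique {n : ℕ} {e e' : Fin n → ℕ} {H H' N : Matrix (Fin n) (Fin n) (PowerSeries k)}
    (hH : IsRed e H) (hH' : IsRed e' H') (hN : IsUnit N) (h : N * H = H') : H = H' := by
  classical
  have hlow : ∀ j i, j < i → N i j = 0 := by
    intro j
    induction j using WellFoundedLT.induction with
    | _ j ih =>
      intro i hji
      have h2 := congrFun (congrFun h i) j
      rw [hH'.2.1 i j hji, Matrix.mul_apply, Finset.sum_eq_single j] at h2
      · rw [hH.1 j] at h2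
        exact (mul_eq_zero.1 h2).resolve_right (pow_ne_zero _ X_ne_zero)
      · intro l _ hl
        rcases lt_or_gt_of_ne hl with hl' | hl'
        · rw [ih l hl' i (lt_trans hl' hji), zero_mul]
        · rw [hH.2.1 l j hl', mul_zero]
      · simp
  have hdiag : ∀ i, N i i * X ^ e i = X ^ e' i := by
    intro i
    have h2 := congrFun (congrFun h i) i
    rw [hH'.1 i, Matrix.mul_apply, Finset.sum_eq_single i, hH.1 i] at h2
    · exact h2
    · intro l _ hl
      rcases lt_or_gt_of_ne hl with hl' | hl'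
      · rw [hlow l i hl', zero_mul]
      · rw [hH.2.1 l i hl', mul_zero]
    · simp
  have hN1 : ∀ i, N i i = 1 ∧ e i = e' i := by
    intro i
    have hu : IsUnit (N i i) := by
      have hd := (Matrix.isUnit_iff_isUnit_det N).1 hN
      rw [Matrix.det_of_upperTriangular (M := N) (fun a b hab => hlow b a hab)] at hd
      exact isUnit_of_dvd_unit (Finset.dvd_prod_of_mem (fun a => N a a) (Finset.mem_univ i)) hd
    have he : e i = e' i := by
      have h2 := congrArg PowerSeries.order (hdiag i)
      rw [order_mul, order_zero_of_unit hu, zero_add, order_X_pow, order_X_pow] at h2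
      exact_mod_cast h2
    exact ⟨mul_right_cancel₀ (pow_ne_zero (e i) (X_ne_zero (R := k))) (by rw [one_mul, hdiag i, he]), he⟩
  have hup : ∀ j i, i < j → N i j = 0 := by
    intro j
    induction j using WellFoundedLT.induction with
    | _ j ih =>
      intro i hij
      have h2 := congrFun (congrFun h i) j
      rw [Matrix.mul_apply, ← Finset.add_sum_erase _ _ (Finset.mem_univ i),
        Finset.sum_eq_single j] at h2
      · rw [(hN1 i).1, one_mul, hH.1 j] at h2
        ext m
        have h3 := congrArg (coeff (m + e j)) h2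
        rw [map_add, coeff_mul_X_pow, hH.2.2 i j hij _ (Nat.le_add_left _ _),
          hH'.2.2 i j hij _ ((hN1 j).2 ▸ Nat.le_add_left (e j) m), zero_add] at h3
        rw [h3, map_zero]
      · intro l hl hlj
        rcases lt_or_gt_of_ne (Finset.ne_of_mem_erase hl) with hl' | hl'
        · rw [hlow l i hl', zero_mul]
        · rcases lt_or_gt_of_ne hlj with hl'' | hl''
          · rw [ih l hl'' i hl', zero_mul]
          · rw [hH.2.1 l j hl'', mul_zero]
      · intro hc
        exact absurd (Finset.mem_erase.2 ⟨hij.ne', Finset.mem_univ j⟩) hc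
  have : N = 1 := by
    refine Matrix.ext fun i j => ?_
    rcases lt_trichotomy i j with hij | rfl | hij
    · rw [hup j i hij, Matrix.one_apply_ne hij.ne]
    · rw [(hN1 i).1, Matrix.one_apply_eq]
    · rw [hlow j i hij, Matrix.one_apply_ne hij.ne']
  rw [← h, this, one_mul]

end Groth.Agent.HNF15
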